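import Mathlib
import Cfsg.Agent.GT.ModRep2
import Cfsg.Agent.FT.RepIrr

/-! # The idempotent of a homogeneous component of a normal `q`-subgroup -/

set_option autoImplicit false

namespace Cfsg.Agent.EX

open Module Polynomial Cfsg.Agent.GT
open scoped commutatorElement

theorem dvd_card_of_sum_eq_zero {r : ℕ} (hr : r.Prime) (s : Multiset ℂ) (h : ∀ x ∈ s, x ^ r = 1)
    (h0 : s.sum = 0) : r ∣ s.card := by
  have := Fact.mk hr
  have hz := Complex.isPrimitiveRoot_exp r hr.ne_zero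
  set ζ := Complex.exp (2 * Real.pi * Complex.I / r)
  have key : ∃ P : ℤ[X], aeval ζ P = s.sum ∧ P.eval 1 = s.card := by
    clear h0
    induction s using Multiset.induction_on with
    | empty => exact ⟨0, by simp⟩
    | cons a s ih =>
      obtain ⟨P, h1, h2⟩ := ih fun x hx => h x (Multiset.mem_cons_of_mem hx)
      obtain ⟨i, -, hi⟩ := hz.eq_pow_of_pow_eq_one (h a (Multiset.mem_cons_self a s))
      exact ⟨X ^ i + P, by simp [h1, hi], by simp [h2, add_comm]⟩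
  obtain ⟨P, h1, h2⟩ := key
  have h3 := minpoly.isIntegrallyClosed_dvd (hz.isIntegral hr.pos) (h1.trans h0)
  rw [← cyclotomic_eq_minpoly hz hr.pos] at h3
  have h4 := eval_dvd (x := (1 : ℤ)) h3
  rw [eval_one_cyclotomic_prime, h2] at h4
  exact Int.natCast_dvd_natCast.1 h4

variable {W V : Type*} [AddCommGroup W] [Module ℂ W] [AddCommGroup V] [Module ℂ V]

theorem dvd_finrank_of_trace [FiniteDimensional ℂ W] {r : ℕ} (hr : r.Prime) {u : End ℂ W} {κ : ℂ}
    (hκ : κ ≠ 0) (hu : u ^ r = κ • (1 : End ℂ W)) (h0 : LinearMap.trace ℂ W u = 0) :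
    r ∣ finrank ℂ W := by
  obtain ⟨k, hk⟩ := IsAlgClosed.exists_pow_nat_eq κ hr.pos
  have hk0 : k ≠ 0 := by
    rintro rfl
    exact hκ (by rw [← hk, zero_pow hr.ne_zero])
  have h1 : (k⁻¹ • u) ^ r = 1 := by
    rw [_root_.smul_pow, hu, smul_smul, inv_pow, hk, inv_mul_cancel₀ hκ, one_smul]
  have h2 : LinearMap.trace ℂ W (k⁻¹ • u) = 0 := by rw [map_smul, h0, smul_zero]
  generalize k⁻¹ • u = v at h1 h2
  rw [End.trace_eq_sum_roots_charpoly_of_splits (IsAlgClosed.splits _)] at h2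
  have h3 := dvd_card_of_sum_eq_zero hr _ (fun x hx => by
    obtain ⟨w, hw⟩ := ((End.hasEigenvalue_iff_isRoot_charpoly v x).2
      (isRoot_of_mem_roots hx)).exists_hasEigenvector
    have h4 := hw.pow_apply r
    rw [h1, End.one_apply] at h4
    exact (smul_left_injective ℂ hw.2 (h4.symm.trans (one_smul ℂ w).symm))) h2
  rwa [IsAlgClosed.card_roots_eq_natDegree, LinearMap.charpoly_natDegree] at h3

variable {M : Type*} [Group M] [Fintype M] (τ : Representation ℂ M W) (σ : Representation ℂ M V)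

/-- The action of `End W` on the homogeneous component of type `τ`, up to a scalar. -/
noncomputable def pm : End ℂ W →ₗ[ℂ] End ℂ V where
  toFun A := ∑ g, LinearMap.trace ℂ W (A * τ g⁻¹) • σ g
  map_add' A B := by simp only [add_mul, map_add, add_smul, Finset.sum_add_distrib]
  map_smul' c A := by
    simp only [smul_mul_assoc, map_smul, smul_eq_mul, RingHom.id_apply, Finset.smul_sum, smul_smul]

theorem pm_apply (A : End ℂ W) : pm τ σ A = ∑ g, LinearMap.trace ℂ W (A * τ g⁻¹) • σ g := rfl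

theorem pm_one : pm τ σ 1 = charProj τ σ := by simp [pm_apply, charProj]

theorem mul_pm [FiniteDimensional ℂ W] (y : M) (A : End ℂ W) :
    σ y * pm τ σ A = pm τ σ (τ y * A) := by
  rw [pm_apply, pm_apply, Finset.mul_sum, ← Equiv.sum_comp (Equiv.mulLeft y)
    (fun g => LinearMap.trace ℂ W (τ y * A * τ g⁻¹) • σ g)]
  refine Finset.sum_congr rfl fun g _ => ?_
  rw [mul_smul_comm, ← map_mul, Equiv.coe_mulLeft, mul_assoc (τ y), LinearMap.trace_mul_comm ℂ (τ y),
    mul_assoc, ← map_mul, mul_inv_rev, inv_mul_cancel_right]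

theorem pm_mul (y : M) (A : End ℂ W) : pm τ σ A * σ y = pm τ σ (A * τ y) := by
  rw [pm_apply, pm_apply, Finset.sum_mul, ← Equiv.sum_comp (Equiv.mulRight y)
    (fun g => LinearMap.trace ℂ W (A * τ y * τ g⁻¹) • σ g)]
  refine Finset.sum_congr rfl fun g _ => ?_
  rw [smul_mul_assoc, ← map_mul, Equiv.coe_mulRight, mul_assoc A, ← map_mul, mul_inv_rev,
    mul_inv_cancel_left]

theorem sum_mul_pm [FiniteDimensional ℂ W] (a : M → ℂ) (b : M → M) (A : End ℂ W) :
    (∑ g, a g • σ (b g)) * pm τ σ A = pm τ σ ((∑ g, a g • τ (b g)) * A) := by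
  simp only [Finset.sum_mul, smul_mul_assoc, mul_pm, map_sum, map_smul]

theorem pm_apply_intertwiner {f : W →ₗ[ℂ] V} (hf : ∀ m w, f (τ m w) = σ m (f w)) (A : End ℂ W)
    (w : W) : pm τ σ A (f w) = f (pm τ τ A w) := by
  simp [pm_apply, LinearMap.sum_apply, hf]

variable {τ σ} [FiniteDimensional ℂ W]

theorem card_ne_zero' : (Nat.card M : ℂ) ≠ 0 := Nat.cast_ne_zero.2 Nat.card_pos.ne'

theorem pm_self (h : IrrRep τ) (A : End ℂ W) :
    pm τ τ A = ((Nat.card M : ℂ) / finrank ℂ W) • A := h.sum_trace_smul card_ne_zero' A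

theorem pm_mul_pm (h : IrrRep τ) (A B : End ℂ W) :
    pm τ σ A * pm τ σ B = ((Nat.card M : ℂ) / finrank ℂ W) • pm τ σ (A * B) := by
  rw [pm_apply τ σ A, sum_mul_pm τ σ _ (fun g => g), ← pm_apply, pm_self h, smul_mul_assoc, map_smul]

theorem pm_mul_mul_pm (h : IrrRep τ) {T : End ℂ V} {α : MulAut M}
    (hα : ∀ m, T * σ m = σ (α m) * T) (hn : α ∉ repStab τ) : pm τ σ 1 * T * pm τ σ 1 = 0 := by
  have h1 : pm τ σ 1 * T = T * ∑ g, LinearMap.trace ℂ W (1 * τ g⁻¹) • σ (α⁻¹ g) := by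
    rw [pm_apply, Finset.sum_mul, Finset.mul_sum]
    refine Finset.sum_congr rfl fun g _ => ?_
    rw [smul_mul_assoc, mul_smul_comm, hα, MulAut.apply_inv_self]
  have h2 := h.charProj_eq_zero (τ' := τ.comp (α⁻¹ : MulAut M).toMonoidHom)
    (h.comp (α⁻¹ : MulAut M).surjective) (fun e he => hn ⟨e, fun m w => by
      simpa using he (α m) w⟩)
  rw [← pm_one, pm_apply] at h2
  rw [h1, mul_assoc, sum_mul_pm]
  have h3 : ∑ g, LinearMap.trace ℂ W (1 * τ g⁻¹) • τ (α⁻¹ g) = 0 := h2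
  rw [h3, zero_mul, map_zero, mul_zero]

theorem trace_pm_mul [FiniteDimensional ℂ V] (h : IrrRep τ) {r : ℕ} (hr : r.Prime)
    (hd : ¬ r ∣ finrank ℂ W) {T : End ℂ V} {α : MulAut M} (hα : ∀ m, T * σ m = σ (α m) * T)
    (hs : α ∈ repStab τ) (hαr : α ^ r = 1) (h0 : LinearMap.trace ℂ V (pm τ σ 1 * T) = 0)
    (A : End ℂ W) : LinearMap.trace ℂ V (pm τ σ A * T) = 0 := by
  obtain ⟨e, he⟩ := hs
  have hu : ∀ m, (e.symm : End ℂ W) * τ m = τ (α m) * (e.symm : End ℂ W) := fun m => by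
    ext w
    apply e.injective
    simp [he]
  have hu1 : (e.symm : End ℂ W) * (e : End ℂ W) = 1 := by ext w; simp
  have hu2 : (e : End ℂ W) * (e.symm : End ℂ W) = 1 := by ext w; simp
  generalize (e.symm : End ℂ W) = u at hu hu1 hu2
  generalize (e : End ℂ W) = v at hu1 hu2
  have hd0 : (finrank ℂ W : ℂ) ≠ 0 := Nat.cast_ne_zero.2 h.finrank_pos.ne'
  have htr : LinearMap.trace ℂ W u ≠ 0 := fun ht => by
    obtain ⟨κ, hκ⟩ := h.exists_eq_smul (f := u ^ r) fun m => by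
      rw [pow_mul_rep hu, hαr, MulAut.one_apply]
    refine hd (dvd_finrank_of_trace hr (fun hk => ?_) hκ ht)
    have : Commute u v := hu1.trans hu2.symm
    have h1 : u ^ r * v ^ r = 1 := by rw [← this.mul_pow, hu1, one_pow]
    rw [hκ, hk, zero_smul, zero_mul] at h1
    have := h.nontrivial
    exact zero_ne_one h1
  have key : ∀ B : End ℂ W, ∃ c : ℂ, c * finrank ℂ W = Nat.card M * LinearMap.trace ℂ W (B * u) ∧
      Nat.card M * LinearMap.trace ℂ V (pm τ σ B * T) = c * LinearMap.trace ℂ V (pm τ σ v * T) := by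
    intro B
    obtain ⟨c, hc⟩ := h.exists_eq_smul (f := ∑ y, τ y * (B * u) * τ y⁻¹) fun m => by
      rw [Finset.sum_mul, Finset.mul_sum, ← Equiv.sum_comp (Equiv.mulLeft m)
        (fun y => τ y * (B * u) * τ y⁻¹ * τ m)]
      refine Finset.sum_congr rfl fun y _ => ?_
      simp only [Equiv.coe_mulLeft, mul_assoc, ← map_mul, mul_inv_rev, inv_mul_cancel, mul_one]
      rw [map_mul, mul_assoc]
    refine ⟨c, ?_, ?_⟩
    · have h1 := congrArg (LinearMap.trace ℂ W) hc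
      rw [map_smul, LinearMap.trace_one, map_sum, smul_eq_mul] at h1
      rw [← h1, Finset.sum_congr rfl fun y _ => (by
        rw [LinearMap.trace_mul_comm, ← mul_assoc, ← map_mul, inv_mul_cancel, map_one, one_mul] :
          LinearMap.trace ℂ W (τ y * (B * u) * τ y⁻¹) = LinearMap.trace ℂ W (B * u))]
      simp
    · have h1 : ∀ y : M, LinearMap.trace ℂ V (pm τ σ B * T) =
          LinearMap.trace ℂ V (pm τ σ (τ y * (B * u) * τ y⁻¹ * v) * T) := fun y => by
        have h2 : τ y * (B * u) * τ y⁻¹ * v = τ y * B * τ (α y⁻¹) := by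
          rw [mul_assoc, mul_assoc, mul_assoc, ← mul_assoc u, hu, mul_assoc _ u, hu1, mul_one,
            mul_assoc]
        rw [h2, ← pm_mul, ← mul_pm, mul_assoc, ← hα, mul_assoc, LinearMap.trace_mul_comm ℂ (σ y),
          mul_assoc, mul_assoc, ← map_mul, inv_mul_cancel, map_one, mul_one]
      have h2 : (Nat.card M : ℂ) * LinearMap.trace ℂ V (pm τ σ B * T) =
          ∑ y : M, LinearMap.trace ℂ V (pm τ σ B * T) := by simp
      rw [h2, Finset.sum_congr rfl fun y _ => h1 y, ← map_sum, ← Finset.sum_mul, ← map_sum,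
        ← Finset.sum_mul, hc, smul_mul_assoc, one_mul, map_smul, smul_mul_assoc, map_smul,
        smul_eq_mul]
  obtain ⟨c, hc1, hc2⟩ := key 1
  obtain ⟨c', -, hc3⟩ := key A
  rw [h0, mul_zero] at hc2
  have hc0 : c ≠ 0 := by
    rintro rfl
    rw [zero_mul, one_mul] at hc1
    exact mul_ne_zero card_ne_zero' htr hc1.symm
  rw [(mul_eq_zero.1 hc2.symm).resolve_left hc0, mul_zero] at hc3
  exact (mul_eq_zero.1 hc3).resolve_left card_ne_zero'

/-- `E` behaves like the projection onto a homogeneous component of the normal subgroup `Q`. -/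
structure Comp (r : ℕ) {G : Type*} [Group G] (ρ : Representation ℂ G V) (Q : Subgroup G)
    (E : End ℂ V) : Prop where
  idem : E * E = E
  comm : ∀ x ∈ Q, ρ x * E = E * ρ x
  alt : ∀ g, ρ g * E = E * ρ g ∨ E * ρ g * E = 0
  scal : ∀ z ∈ Q, (∀ y ∈ Q, ρ ⁅z, y⁆ * E = E) → ∃ l : ℂ, ρ z * E = l • E
  tr : ∀ g, g ^ r = 1 → ρ g * E = E * ρ g → LinearMap.trace ℂ V (E * ρ g) = 0 →
    ∀ x ∈ Q, LinearMap.trace ℂ V (ρ x * E * ρ g) = 0

theorem exists_comp [FiniteDimensional ℂ V] {G : Type*} [Group G] [Finite G]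
    (ρ : Representation ℂ G V) {Q : Subgroup G} [Q.Normal] {q r : ℕ} (hq : q.Prime) (hr : r.Prime)
    (hne : r ≠ q) (hQ : IsPGroup q Q) {c : G} (hc : c ∈ Q) (h1 : ρ c ≠ 1) :
    ∃ E, Comp r ρ Q E ∧ ρ c * E ≠ E := by
  have := Fact.mk hq
  have := Fintype.ofFinite Q
  set σ : Representation ℂ Q V := ρ.comp Q.subtype with hσ
  obtain ⟨U, hU, hU0⟩ := FT.exists_irreducible_fixDim_eq_zero σ
    (Subgroup.normalClosure {(⟨c, hc⟩ : Q)})
    fun h => h1 (h (Subgroup.subset_normalClosure (Set.mem_singleton _)))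
  set τ := U.toRepresentation with hτ
  have h : IrrRep τ := ⟨FT.irr_nontrivial hU, FT.irr_eq_bot_or_top hU⟩
  have hτc : τ ⟨c, hc⟩ ≠ 1 := fun e => by
    have h2 : Subgroup.normalClosure {(⟨c, hc⟩ : Q)} ≤ τ.ker :=
      Subgroup.normalClosure_le_normal (Set.singleton_subset_iff.2 e)
    rw [FT.fixDim, FT.fixSub_eq_top_iff.2 h2, finrank_top] at hU0
    exact h.finrank_pos.ne' hU0
  have hd0 : (finrank ℂ U.toSubmodule : ℂ) ≠ 0 := Nat.cast_ne_zero.2 h.finrank_pos.ne'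
  set κ : ℂ := (Nat.card Q : ℂ) / finrank ℂ U.toSubmodule with hκ
  have hκ0 : κ ≠ 0 := div_ne_zero card_ne_zero' hd0
  have hf : ∀ m w, U.toSubmodule.subtype (τ m w) = σ m (U.toSubmodule.subtype w) := fun _ _ => rfl
  have hE : ∀ x : Q, ρ x * (κ⁻¹ • pm τ σ 1) = κ⁻¹ • pm τ σ (τ x) := fun x => by
    rw [mul_smul_comm, ← mul_one (τ x), ← mul_pm]; rfl
  have hinj : ∀ A B, κ⁻¹ • pm τ σ A = κ⁻¹ • pm τ σ B → A = B := fun A B e => by
    ext w
    have h2 := congrArg (fun X : End ℂ V => X (U.toSubmodule.subtype w)) e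
    simp only [LinearMap.smul_apply, pm_apply_intertwiner τ σ hf, pm_self h, ← hκ, map_smul,
      smul_smul, inv_mul_cancel₀ hκ0, one_smul] at h2
    exact h2
  have hα : ∀ (g : G) (m : Q), ρ g * σ m = σ (MulAut.conjNormal g m) * ρ g := fun g m => by
    change ρ g * ρ m = ρ (MulAut.conjNormal g m : Q) * ρ g
    rw [← map_mul, ← map_mul, MulAut.conjNormal_apply, inv_mul_cancel_right]
  have hid : κ⁻¹ • pm τ σ 1 * κ⁻¹ • pm τ σ 1 = κ⁻¹ • pm τ σ 1 := by
    rw [smul_mul_smul_comm, pm_mul_pm h, ← hκ, smul_smul, mul_assoc, inv_mul_cancel₀ hκ0, mul_one,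
      mul_one]
  have hzero : ∀ g : G, MulAut.conjNormal g ∉ repStab τ →
      κ⁻¹ • pm τ σ 1 * ρ g * κ⁻¹ • pm τ σ 1 = 0 := fun g hg => by
    rw [smul_mul_assoc, smul_mul_smul_comm, pm_mul_mul_pm h (hα g) hg, smul_zero]
  refine ⟨κ⁻¹ • pm τ σ 1, ⟨hid, fun x hx => ?_, fun g => ?_, fun z hz hy => ?_,
    fun g hg h2 h3 x hx => ?_⟩, fun e => hτc (hinj _ _ ((hE ⟨c, hc⟩).symm.trans e))⟩
  · rw [hE ⟨x, hx⟩, smul_mul_assoc, ← one_mul (τ _), ← pm_mul]; rfl
  · by_cases hg : MulAut.conjNormal g ∈ repStab τ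
    · left
      rw [mul_smul_comm, smul_mul_assoc, pm_one, mul_charProj (hα g) hg]
    · exact Or.inr (hzero g hg)
  · obtain ⟨l, hl⟩ := h.exists_eq_smul (f := τ ⟨z, hz⟩) fun m => by
      have h2 := hinj _ _ ((hE ⁅(⟨z, hz⟩ : Q), m⁆).symm.trans (hy m m.2))
      rw [← map_mul, ← map_mul, ← one_mul (τ (m * _)), ← h2, ← map_mul, commutatorElement_def]
      congr 1
      group
    exact ⟨l, by rw [hE ⟨z, hz⟩, hl, map_smul, smul_comm]⟩
  · by_cases hs : MulAut.conjNormal g ∈ repStab τ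
    · obtain ⟨k, hk⟩ := h.exists_finrank_eq_pow (Nat.cast_ne_zero.2 hq.ne_zero) hQ
      rw [hE ⟨x, hx⟩, smul_mul_assoc, map_smul, trace_pm_mul h hr (fun hd => hne
        ((Nat.prime_dvd_prime_iff_eq hr hq).1 (hr.dvd_of_dvd_pow (hk ▸ hd)))) (hα g) hs
        (by rw [← map_pow, hg, map_one]) ?_, smul_zero]
      rw [smul_mul_assoc, map_smul] at h3
      exact (smul_eq_zero.1 h3).resolve_left (inv_ne_zero hκ0)
    · have h4 := hzero g hs
      rw [mul_assoc, h2, ← mul_assoc, hid] at h4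
      rw [mul_assoc, h4, mul_zero, map_zero]

end Cfsg.Agent.EX
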