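import Mathlib
import Cfsg.Agent.EX.Idem
import Cfsg.Agent.GT.PGroupBasic

/-! # An element of `Q` fixing the fixed points of `R` acts trivially (complex case) -/

set_option autoImplicit false

namespace Cfsg.Agent.EX

open Module Cfsg.Agent.GT
open scoped commutatorElement

variable {G : Type*} [Group G] [Finite G] {V : Type*} [AddCommGroup V] [Module ℂ V]

omit [Finite G] in
theorem exists_fixed_coset {p : ℕ} (hp : p.Prime) {P H : Subgroup G} (hP : IsPGroup p P)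
    (hH : ¬ p ∣ Nat.card H) {x : G} (hx : ∀ a ∈ P, ∀ h ∈ H, x⁻¹ * (a * (x * h) * a⁻¹) ∈ H) :
    ∃ h ∈ H, ∀ a ∈ P, a * (x * h) = x * h * a := by
  have := Fact.mk hp
  let act : MulAction P H :=
    { smul := fun a h => ⟨x⁻¹ * (a * (x * h) * (a : G)⁻¹), hx a a.2 h h.2⟩
      one_smul := fun h => Subtype.ext (by
        change x⁻¹ * ((1 : G) * (x * h) * (1 : G)⁻¹) = h
        group)
      mul_smul := fun a b h => Subtype.ext (by
        change x⁻¹ * ((a * b : G) * (x * h) * (a * b : G)⁻¹) =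
          x⁻¹ * (a * (x * (x⁻¹ * (b * (x * h) * (b : G)⁻¹))) * (a : G)⁻¹)
        group) }
  obtain ⟨h, hh⟩ := hP.nonempty_fixed_point_of_prime_not_dvd_card H hH
  refine ⟨h, h.2, fun a ha => ?_⟩
  have h1 : x⁻¹ * (a * (x * h) * a⁻¹) = h := congrArg Subtype.val (hh ⟨a, ha⟩)
  rw [← mul_inv_eq_iff_eq_mul, ← inv_mul_eq_iff_eq_mul, h1]

theorem not_dvd_card_of_pgroup {p q : ℕ} (hp : p.Prime) (hq : q.Prime) (hne : p ≠ q)
    {H : Subgroup G} (h : IsPGroup q H) : ¬ p ∣ Nat.card H := fun hd => by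
  have := Fact.mk hq
  obtain ⟨n, hn⟩ := IsPGroup.iff_card.1 h
  exact hne ((Nat.prime_dvd_prime_iff_eq hp hq).1 (hp.dvd_of_dvd_pow (hn ▸ hd)))

omit [Finite G] in
theorem mul_sum_eq (ρ : Representation ℂ G V) (A : Subgroup G) [Fintype A] {b : G} (hb : b ∈ A) :
    ρ b * ∑ a : A, ρ a = ∑ a : A, ρ a := by
  rw [Finset.mul_sum, ← Equiv.sum_comp (Equiv.mulLeft (⟨b, hb⟩ : A)) (fun a : A => ρ a)]
  exact Finset.sum_congr rfl fun a _ => (map_mul ρ _ _).symm

/-- The elements commuting with `E`. -/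
def stabE (ρ : Representation ℂ G V) (E : End ℂ V) : Subgroup G where
  carrier := {g | ρ g * E = E * ρ g}
  one_mem' := by simp
  mul_mem' := fun {a b} (ha : _ = _) (hb : _ = _) => by
    change _ = _
    rw [map_mul, mul_assoc, hb, ← mul_assoc, ha, mul_assoc]
  inv_mem' := fun {a} (ha : _ = _) => by
    change _ = _
    calc ρ a⁻¹ * E = ρ a⁻¹ * (E * ρ a) * ρ a⁻¹ := by
          rw [mul_assoc, mul_assoc, ← map_mul, mul_inv_cancel, map_one, mul_one]
      _ = E * ρ a⁻¹ := by rw [← ha, ← mul_assoc, ← map_mul, inv_mul_cancel, map_one, one_mul]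

/-- The elements acting trivially on the range of `E`. -/
def kerE (ρ : Representation ℂ G V) (E : End ℂ V) : Subgroup G where
  carrier := {g | ρ g * E = E}
  one_mem' := by simp
  mul_mem' := fun {a b} (ha : _ = _) (hb : _ = _) => by
    change _ = _
    rw [map_mul, mul_assoc, hb, ha]
  inv_mem' := fun {a} (ha : _ = _) => by
    change _ = _
    conv_lhs => rw [← ha, ← mul_assoc, ← map_mul, inv_mul_cancel, map_one, one_mul]

variable {ρ : Representation ℂ G V} {E : End ℂ V} {Q F R : Subgroup G} {r : ℕ} {c : G}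

omit [Finite G] in
theorem conj_smul_of_stab {k z : G} {l : ℂ} (hk : k ∈ stabE ρ E) (hz : ρ z * E = l • E) :
    ρ (k⁻¹ * z * k) * E = l • E := by
  have h1 : ρ k * E = E * ρ k := hk
  rw [map_mul, map_mul, mul_assoc, h1, mul_assoc, ← mul_assoc (ρ z), hz, smul_mul_assoc,
    mul_smul_comm, ← h1, ← mul_assoc, ← map_mul, inv_mul_cancel, map_one, one_mul]

namespace Comp

/-- Regular orbits of `R` on the components. -/
theorem reg [Q.Normal] (h : Comp r ρ Q E) (hr : r.Prime) (hR : Nat.card R = r) (hc : c ∈ Q)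
    (hfix : ∀ v, (∀ a ∈ R, ρ a v = v) → ρ c v = v) (f : G)
    (hf : ∃ a ∈ R, f⁻¹ * a * f ∉ stabE ρ E) : ρ (f⁻¹ * c * f) * E = E := by
  classical
  have := Fintype.ofFinite R
  have := Fact.mk (hR ▸ hr)
  obtain ⟨a, ha, hn⟩ := hf
  have h1 : ∀ b : R, b ≠ 1 → E * ρ (f⁻¹ * b * f) * E = 0 := fun b hb => by
    refine (h.alt _).resolve_left fun hs => hn ?_
    obtain ⟨n, hn⟩ := mem_powers_iff_mem_zpowers.2
      (mem_zpowers_of_prime_card (p := Nat.card R) rfl hb (g' := ⟨a, ha⟩))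
    have h2 : a = b ^ n := congrArg Subtype.val hn.symm
    have h3 := pow_mem (show f⁻¹ * b * f ∈ stabE ρ E from hs) n
    have h4 := conj_pow (a := f⁻¹) (b := (b : G)) (i := n)
    rw [inv_inv] at h4
    rwa [h4, ← h2] at h3
  have h2 : E * (∑ b : R, ρ (f⁻¹ * b * f)) * E = E := by
    rw [Finset.mul_sum, Finset.sum_mul, Finset.sum_eq_single 1 (fun b _ hb => h1 b hb) (by simp)]
    simp [h.idem]
  have h3 : ρ c * ∑ b : R, ρ b = ∑ b : R, ρ b := by
    ext v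
    exact hfix _ fun a ha => by rw [← End.mul_apply, mul_sum_eq ρ R ha]
  have h4 : ∑ b : R, ρ (f⁻¹ * b * f) = ρ f⁻¹ * (∑ b : R, ρ b) * ρ f := by
    simp only [Finset.mul_sum, Finset.sum_mul, map_mul]
  have h5 : ρ (f⁻¹ * c * f) * ∑ b : R, ρ (f⁻¹ * b * f) = ∑ b : R, ρ (f⁻¹ * b * f) := by
    rw [h4, ← mul_assoc, ← mul_assoc, ← map_mul, mul_inv_cancel_right, map_mul, mul_assoc _ (ρ c),
      h3]
  have h6 := h.comm _ (‹Q.Normal›.conj_mem' c hc f)
  conv_lhs => rw [← h2, ← mul_assoc, ← mul_assoc, h6, mul_assoc E, h5]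
  exact h2

theorem trace_eq_zero [FiniteDimensional ℂ V] (h : Comp r ρ Q E)
    (hV : ∀ v, (∀ f ∈ F, ρ f v = v) → v = 0) {g : G} (hgF : ∀ f ∈ F, g * f * g⁻¹ ∈ F)
    (hg : g ∈ stabE ρ E) (h0 : ∀ f ∈ F, f ∈ stabE ρ E → g * f = f * g → f = 1) :
    LinearMap.trace ℂ V (E * ρ g) = 0 := by
  classical
  have := Fintype.ofFinite F
  have h1 : ∑ f : F, ρ f = 0 := by
    ext v
    exact hV _ fun a ha => by rw [← End.mul_apply, mul_sum_eq ρ F ha]
  have hm : ∀ k : ↥(F ⊓ stabE ρ E), k * (g * (k : G)⁻¹ * g⁻¹) ∈ F ⊓ stabE ρ E := fun k =>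
    mul_mem k.2 ⟨hgF _ (F.inv_mem k.2.1),
      (stabE ρ E).mul_mem (mul_mem hg ((stabE ρ E).inv_mem k.2.2)) (inv_mem hg)⟩
  have hs : Function.Surjective fun k : ↥(F ⊓ stabE ρ E) => (⟨_, hm k⟩ : ↥(F ⊓ stabE ρ E)) := by
    refine Finite.injective_iff_surjective.1 fun k l e => Subtype.ext ?_
    have e1 : (k : G) * (g * (k : G)⁻¹ * g⁻¹) = l * (g * (l : G)⁻¹ * g⁻¹) := congrArg Subtype.val e
    refine (inv_mul_eq_one.1 (h0 _ (l⁻¹ * k).2.1 (l⁻¹ * k).2.2 ?_)).symm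
    change g * ((l : G)⁻¹ * k) = (l : G)⁻¹ * k * g
    calc g * ((l : G)⁻¹ * k) = (l : G)⁻¹ * (l * (g * (l : G)⁻¹ * g⁻¹)) * g * k := by group
      _ = _ := by rw [← e1]; group
  have h2 : ∀ f : F, LinearMap.trace ℂ V (E * ρ f * E * ρ g) =
      if (f : G) ∈ stabE ρ E then LinearMap.trace ℂ V (E * ρ g) else 0 := fun f => by
    split_ifs with hf
    · obtain ⟨k, hk⟩ := hs ⟨f, f.2, hf⟩
      have e1 : (k : G) * (g * (k : G)⁻¹ * g⁻¹) = f := congrArg Subtype.val hk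
      have e2 : ρ f * E = E * ρ f := hf
      have e3 : ρ k * E = E * ρ k := k.2.2
      rw [mul_assoc E, e2, ← mul_assoc, h.idem, mul_assoc, ← map_mul, ← e1,
        show (k : G) * (g * (k : G)⁻¹ * g⁻¹) * g = k * (g * (k : G)⁻¹) by group, map_mul ρ,
        ← mul_assoc, ← e3, mul_assoc, LinearMap.trace_mul_comm, mul_assoc, ← map_mul,
        inv_mul_cancel_right]
    · rw [(h.alt _).resolve_left hf, zero_mul, map_zero]
  have h3 : ∑ f : F, LinearMap.trace ℂ V (E * ρ f * E * ρ g) = 0 := by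
    rw [← map_sum, ← Finset.sum_mul, ← Finset.sum_mul, ← Finset.mul_sum, h1]
    simp
  rw [Finset.sum_congr rfl fun f _ => h2 f, ← Finset.sum_filter, Finset.sum_const, nsmul_eq_mul,
    mul_eq_zero, Nat.cast_eq_zero, Finset.card_eq_zero] at h3
  refine h3.resolve_left (Finset.nonempty_iff_ne_empty.1 ⟨1, ?_⟩)
  simp

theorem free_case [FiniteDimensional ℂ V] (h : Comp r ρ Q E) (hR : Nat.card R = r) (hc : c ∈ Q)
    (hfix : ∀ v, (∀ a ∈ R, ρ a v = v) → ρ c v = v) (hs : R ≤ stabE ρ E)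
    (h0 : ∀ g ∈ R, g ≠ 1 → LinearMap.trace ℂ V (E * ρ g) = 0) : ρ c * E = E := by
  classical
  have := Fintype.ofFinite R
  have := Fintype.ofFinite (Subgroup.zpowers c)
  have h3 : c ∈ kerE ρ (∑ b : R, ρ b) := by
    change _ = _
    ext v
    exact hfix _ fun a ha => by rw [← End.mul_apply, mul_sum_eq ρ R ha]
  have h1 : ∀ x ∈ Q, LinearMap.trace ℂ V (ρ x * E * ∑ b : R, ρ b) =
      LinearMap.trace ℂ V (ρ x * E) := fun x hx => by
    rw [Finset.mul_sum, map_sum, Finset.sum_eq_single (1 : R) (fun b _ hb => h.tr b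
      (by rw [← hR, ← Subgroup.coe_pow, pow_card_eq_one', Subgroup.coe_one]) (hs b.2)
      (h0 b b.2 fun e => hb (Subtype.ext e)) x hx) (by simp)]
    simp
  have h2 : ∀ x : Subgroup.zpowers c, LinearMap.trace ℂ V (ρ x * E) = LinearMap.trace ℂ V E := by
    intro x
    have hx : (x : G) ∈ Q := (Subgroup.zpowers_le.2 hc) x.2
    have e1 : ρ x * ∑ b : R, ρ b = ∑ b : R, ρ b := (Subgroup.zpowers_le.2 h3) x.2
    have e2 := h1 1 Q.one_mem
    rw [map_one, one_mul] at e2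
    rw [← h1 x hx, h.comm x hx, mul_assoc, e1, e2]
  set n : ℂ := (Nat.card (Subgroup.zpowers c) : ℂ) with hn
  have hn0 : n ≠ 0 := card_ne_zero'
  set N := ∑ x : Subgroup.zpowers c, ρ x with hN
  have h4 : N * N = n • N := by
    conv_lhs => rw [hN, Finset.sum_mul, Finset.sum_congr rfl fun x _ => mul_sum_eq ρ _ x.2]
    rw [Finset.sum_const, ← Nat.cast_smul_eq_nsmul ℂ, hn, Nat.card_eq_fintype_card]
    rfl
  have h5 : N * E = E * N := by
    rw [hN, Finset.sum_mul, Finset.mul_sum]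
    exact Finset.sum_congr rfl fun x _ => h.comm x ((Subgroup.zpowers_le.2 hc) x.2)
  have h6 : IsIdempotentElem (E - n⁻¹ • (N * E)) := by
    have e1 : E * (N * E) = N * E := by rw [← mul_assoc, ← h5, mul_assoc, h.idem]
    have e2 : N * E * E = N * E := by rw [mul_assoc, h.idem]
    have e3 : N * E * (N * E) = n • (N * E) := by
      rw [mul_assoc, e1, ← mul_assoc, h4, smul_mul_assoc]
    rw [IsIdempotentElem, sub_mul, mul_sub, mul_sub, h.idem, mul_smul_comm, smul_mul_assoc,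
      smul_mul_smul_comm, e1, e2, e3, smul_smul, mul_assoc, inv_mul_cancel₀ hn0, mul_one, sub_self,
      sub_zero]
  have h7 := LinearMap.IsIdempotentElem.eq_zero_of_trace_eq_zero h6 (by
    rw [map_sub, map_smul, hN, Finset.sum_mul, map_sum, Finset.sum_congr rfl fun x _ => h2 x,
      Finset.sum_const, Finset.card_univ, ← Nat.card_eq_fintype_card, nsmul_eq_mul, smul_eq_mul,
      ← mul_assoc, inv_mul_cancel₀ hn0, one_mul, sub_self])
  rw [sub_eq_zero] at h7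
  conv_lhs => rw [h7, mul_smul_comm, ← mul_assoc, hN, mul_sum_eq ρ _ (Subgroup.mem_zpowers c)]
  exact h7.symm

theorem single_case [Q.Normal] (h : Comp r ρ Q E) {q s : ℕ} (hq : q.Prime) (hs : s.Prime)
    (hsq : s ≠ q) (hQ : IsPGroup q Q) (hF : IsPGroup s F)
    (hQF : ∀ x ∈ Q, (∀ f ∈ F, f * x = x * f) → x = 1) (hc : c ∈ Q)
    (h1 : ∀ f ∈ F, f ∉ stabE ρ E → ρ (f⁻¹ * c * f) * E = E) : ρ c * E = E := by
  classical
  by_contra hcE
  have := Fact.mk hq
  have := Fact.mk hs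
  have := Fintype.ofFinite F
  have := hQ.isNilpotent
  have hN := ‹Q.Normal›
  let M : Subgroup Q := ⨅ f ∈ F, ⨅ _ : f ∉ stabE ρ E,
    ((kerE ρ E).comap (MulAut.conj f⁻¹).toMonoidHom).comap Q.subtype
  have hM : ∀ x : Q, x ∈ M ↔ ∀ f ∈ F, f ∉ stabE ρ E → ρ (f⁻¹ * x * f) * E = E := fun x => by
    simp only [M, Subgroup.mem_iInf, Subgroup.mem_comap, MulEquiv.coe_toMonoidHom,
      MulAut.conj_apply, inv_inv]
    rfl
  have : M.Normal := ⟨fun x hx y => (hM _).2 fun f hf hn => by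
    have e := conj_smul_of_stab (k := f⁻¹ * (y : G)⁻¹ * f) (l := 1)
      (h.comm _ (hN.conj_mem' _ (inv_mem y.2) f)) (((hM x).1 hx f hf hn).trans (one_smul ℂ E).symm)
    rw [one_smul] at e
    rw [← e]
    congr 2
    push_cast
    group⟩
  obtain ⟨z, hzM, hzE, hz⟩ := PG.exists_notMem_commutator_mem M ((kerE ρ E).comap Q.subtype)
    fun hle => hcE (hle ((hM ⟨c, hc⟩).2 h1))
  obtain ⟨l, hl⟩ := h.scal z z.2 fun y hy => hz ⟨y, hy⟩
  have key : ∀ A : Finset F, ∃ y ∈ Q, ∀ f ∈ F, ρ (f⁻¹ * y * f) * E =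
      (∏ a ∈ A, if (a : G)⁻¹ * f ∈ stabE ρ E then l else 1) • E := fun A => by
    induction A using Finset.induction_on with
    | empty => exact ⟨1, Q.one_mem, fun f _ => by simp⟩
    | insert a A ha ih =>
      obtain ⟨y, hy, hyE⟩ := ih
      refine ⟨a * z * (a : G)⁻¹ * y, mul_mem (hN.conj_mem _ z.2 _) hy, fun f hf => ?_⟩
      rw [Finset.prod_insert ha, show f⁻¹ * (a * z * (a : G)⁻¹ * y) * f =
        (((a : G)⁻¹ * f)⁻¹ * z * ((a : G)⁻¹ * f)) * (f⁻¹ * y * f) by group, map_mul, mul_assoc,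
        hyE f hf, mul_smul_comm, mul_comm, mul_smul]
      congr 1
      split_ifs with hs
      · exact conj_smul_of_stab hs hl
      · rw [one_smul]
        exact (hM z).1 hzM _ (mul_mem (inv_mem a.2) hf) hs
  obtain ⟨y, hy, hyE⟩ := key Finset.univ
  obtain ⟨m, hm⟩ := IsPGroup.iff_card.1 (hF.to_subgroup ((stabE ρ E).subgroupOf F))
  have h2 : ∀ f ∈ F, ρ (f⁻¹ * y * f) * E = l ^ s ^ m • E := fun f hf => by
    rw [hyE f hf, ← hm]
    congr 1
    have e := Equiv.prod_comp ((Equiv.inv F).trans (Equiv.mulRight (⟨f, hf⟩ : F)))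
      fun a : F => if (a : G) ∈ stabE ρ E then l else 1
    refine Eq.trans ?_ (e.trans ?_)
    · rfl
    · rw [← Finset.prod_filter, Finset.prod_const, Nat.card_eq_fintype_card, Fintype.card_subtype]
      rfl
  let K : Subgroup G := Q ⊓ ⨅ f ∈ F, (kerE ρ E).comap (MulAut.conj f⁻¹).toMonoidHom
  have hK : ∀ x, x ∈ K ↔ x ∈ Q ∧ ∀ f ∈ F, ρ (f⁻¹ * x * f) * E = E := fun x => by
    simp only [K, Subgroup.mem_inf, Subgroup.mem_iInf, Subgroup.mem_comap,
      MulEquiv.coe_toMonoidHom, MulAut.conj_apply, inv_inv]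
    rfl
  obtain ⟨k, hk, hk1⟩ := exists_fixed_coset hs hF (H := K)
    (not_dvd_card_of_pgroup hs hq hsq (hQ.to_le inf_le_left)) (x := y) fun a ha k hk => by
      refine (hK _).2 ⟨mul_mem (inv_mem hy) (hN.conj_mem _ (mul_mem hy hk.1) _), fun f hf => ?_⟩
      have hf' := mul_mem (inv_mem ha) hf
      rw [show f⁻¹ * (y⁻¹ * (a * (y * k) * a⁻¹)) * f = (f⁻¹ * y * f)⁻¹ *
        (((a⁻¹ * f)⁻¹ * y * (a⁻¹ * f)) * ((a⁻¹ * f)⁻¹ * k * (a⁻¹ * f))) by group, map_mul, map_mul,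
        mul_assoc, mul_assoc (ρ _), ((hK k).1 hk).2 _ hf', h2 _ hf', ← h2 f hf, ← mul_assoc,
        ← map_mul, inv_mul_cancel, map_one, one_mul]
  have hE0 : E ≠ 0 := fun e => hcE (by rw [e, mul_zero])
  have h3 : y ∈ K := by
    rw [eq_inv_of_mul_eq_one_left (hQF _ (mul_mem hy hk.1) hk1)]
    exact inv_mem hk
  have h4 : l ^ s ^ m = 1 := smul_left_injective ℂ hE0
    ((h2 1 F.one_mem).symm.trans ((((hK y).1 h3).2 1 F.one_mem).trans (one_smul ℂ E).symm))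
  obtain ⟨j, hj⟩ := hQ z
  have h5 : ∀ n : ℕ, ρ (z ^ n : Q) * E = l ^ n • E := fun n => by
    induction n with
    | zero => simp
    | succ n ih =>
      rw [pow_succ, Subgroup.coe_mul, map_mul, mul_assoc, hl, mul_smul_comm, ih, smul_smul,
        pow_succ']
  have h6 : l ^ q ^ j = 1 := smul_left_injective ℂ hE0 (by
    change _ • E = _ • E
    rw [← h5, hj]
    simp)
  have h7 : l = 1 := (pow_eq_one_iff_of_coprime
    (((Nat.coprime_primes hs hq).2 hsq).pow m j)).1 ⟨h4, h6⟩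
  rw [h7, one_smul] at hl
  exact hzE hl

end Comp

theorem key_complex [FiniteDimensional ℂ V] [Q.Normal] {q s : ℕ} (hq : q.Prime) (hr : r.Prime)
    (hs : s.Prime) (hrq : r ≠ q) (hsq : s ≠ q) (hrs : r ≠ s) (hQ : IsPGroup q Q)
    (hF : IsPGroup s F) (hR : Nat.card R = r) (hRF : ∀ a ∈ R, ∀ f ∈ F, a * f * a⁻¹ ∈ F)
    (hQF : ∀ x ∈ Q, (∀ f ∈ F, f * x = x * f) → x = 1)
    (hZ : ∀ f ∈ F, f ≠ 1 → (∀ a ∈ R, a * f = f * a) →
      ∀ k ∈ F, (∀ a ∈ R, a * k = k * a) → ∃ n : ℕ, k = f ^ n)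
    (hV : ∀ v, (∀ f ∈ F, ρ f v = v) → v = 0) (hc : c ∈ Q)
    (hfix : ∀ v, (∀ a ∈ R, ρ a v = v) → ρ c v = v) : ρ c = 1 := by
  by_contra h1
  obtain ⟨E, h, hE⟩ := exists_comp ρ hq hr hrq hQ hc h1
  have := Fact.mk (hR ▸ hr)
  have hs1 : R ≤ stabE ρ E := fun a ha => by
    by_contra hn
    exact hE (by simpa using h.reg hr hR hc hfix 1 ⟨a, ha, by simpa using hn⟩)
  by_cases h2 : ∀ f ∈ F, f ∈ stabE ρ E → (∀ a ∈ R, a * f = f * a) → f = 1
  · refine hE (h.free_case hR hc hfix hs1 fun g hg hg1 => h.trace_eq_zero hV (hRF g hg) (hs1 hg)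
      fun f hf hfs e => h2 f hf hfs fun a ha => ?_)
    obtain ⟨n, hn⟩ := mem_powers_iff_mem_zpowers.2 (mem_zpowers_of_prime_card (p := Nat.card R) rfl
      (g := ⟨g, hg⟩) (fun e => hg1 (congrArg Subtype.val e)) (g' := ⟨a, ha⟩))
    have h3 : a = g ^ n := congrArg Subtype.val hn.symm
    rw [h3]
    exact Commute.pow_left e n
  · push Not at h2
    obtain ⟨f₀, hf₀, hf₁, hf₂, hf₃⟩ := h2
    refine hE (h.single_case hq hs hsq hQ hF hQF hc fun f hf hn => h.reg hr hR hc hfix f ?_)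
    by_contra h3
    push Not at h3
    obtain ⟨k, hk, hk1⟩ := exists_fixed_coset hr (P := R) (IsPGroup.of_card (n := 1) (by simpa))
      (H := F ⊓ stabE ρ E) (not_dvd_card_of_pgroup hr hs hrs (hF.to_le inf_le_left)) (x := f)
      fun a ha k hk => Subgroup.mem_inf.2 ⟨mul_mem (inv_mem hf) (hRF a ha _ (mul_mem hf hk.1)), by
        rw [show f⁻¹ * (a * (f * k) * a⁻¹) = f⁻¹ * a * f * k * a⁻¹ by group]
        exact mul_mem (mul_mem (h3 a ha) hk.2) (inv_mem (hs1 ha))⟩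
    obtain ⟨n, hn1⟩ := hZ f₀ hf₀ hf₃ hf₂ _ (mul_mem hf hk.1) hk1
    exact hn ((mul_mem_cancel_right (Subgroup.mem_inf.1 hk).2).1 (hn1 ▸ pow_mem hf₁ n))

end Cfsg.Agent.EX
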