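import Mathlib
import Cfsg.Agent.EX.Key
import Cfsg.Agent.GT.ElemAbRep
import Cfsg.Agent.GT.Fitting
import Cfsg.Agent.FT.BG1_1
import Cfsg.Agent.FT.Quot
import Cfsg.Agent.Loc.TurTow
import Cfsg.Agent.Flav.HHSDefs

/-! # The Fitting subgroup and the Fitting height of `C_X(R)` when `C_X(F) = 1` -/

set_option autoImplicit false

namespace Cfsg.Agent.EX

open Module Cfsg Cfsg.Agent.GT Cfsg.Agent.FT Cfsg.Agent.FG.H93
open scoped commutatorElement

universe u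

theorem key_modp {G : Type*} [Group G] [Finite G] {p : ℕ} [Fact p.Prime] {W : Type*}
    [AddCommGroup W] [Module (ZMod p) W] [FiniteDimensional (ZMod p) W]
    (ρ : Representation (ZMod p) G W) (hp : ¬ p ∣ Nat.card G) {Q F R : Subgroup G} [Q.Normal]
    {q r s : ℕ} (hq : q.Prime) (hr : r.Prime)
    (hs : s.Prime) (hrq : r ≠ q) (hsq : s ≠ q) (hrs : r ≠ s) (hQ : IsPGroup q Q)
    (hF : IsPGroup s F) (hR : Nat.card R = r) (hRF : ∀ a ∈ R, ∀ f ∈ F, a * f * a⁻¹ ∈ F)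
    (hQF : ∀ x ∈ Q, (∀ f ∈ F, f * x = x * f) → x = 1)
    (hZ : ∀ f ∈ F, f ≠ 1 → (∀ a ∈ R, a * f = f * a) →
      ∀ k ∈ F, (∀ a ∈ R, a * k = k * a) → ∃ n : ℕ, k = f ^ n)
    (hV : ∀ v, (∀ f ∈ F, ρ f v = v) → v = 0) {c : G} (hc : c ∈ Q)
    (hfix : ∀ v, (∀ a ∈ R, ρ a v = v) → ρ c v = v) : ρ c = 1 := by
  obtain ⟨σ, hσ⟩ := exists_complex_lift hp ρ
  have h1 : fixSub ρ (R ⊔ Subgroup.zpowers c) = fixSub ρ R := by
    refine le_antisymm (fixSub_anti ρ le_sup_left) fun v hv => mem_fixSub.2 ?_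
    let S : Subgroup G :=
      { carrier := {g | ρ g v = v}
        one_mem' := by simp
        mul_mem' := fun {a b} (ha : _ = _) (hb : _ = _) => by
          change _ = _
          rw [← rep_mul_apply, hb, ha]
        inv_mem' := fun {a} (ha : _ = _) => by
          change _ = _
          conv_lhs => rw [← ha, rep_inv_apply] }
    exact (sup_le (mem_fixSub.1 hv) (Subgroup.zpowers_le.2 (hfix v (mem_fixSub.1 hv))) : _ ≤ S)
  have h2 : fixSub σ (R ⊔ Subgroup.zpowers c) = fixSub σ R :=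
    Submodule.eq_of_le_of_finrank_eq (fixSub_anti σ le_sup_left) (by
      change fixDim σ _ = fixDim σ _
      rw [hσ, hσ, fixDim, h1, fixDim])
  have h3 := key_complex (ρ := σ) hq hr hs hrq hsq hrs hQ hF hR hRF hQF hZ
    (fixDim_eq_zero_iff.1 ((hσ F).trans (fixDim_eq_zero_iff.2 hV))) hc fun v hv =>
      mem_fixSub.1 (h2.ge (mem_fixSub.2 hv)) c
        ((le_sup_right : _ ≤ R ⊔ _) (Subgroup.mem_zpowers c))
  by_contra h4
  have h5 := (fixDim_lt_iff (ρ := ρ) (A := Subgroup.zpowers c)).2 fun h =>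
    h4 (h (Subgroup.mem_zpowers c))
  rw [← fixDim_bot ρ, ← hσ, ← hσ, fixDim_bot, fixDim_lt_iff] at h5
  exact h5 (Subgroup.zpowers_le.2 h3)

variable {G : Type u} [Group G] {r s : ℕ} {R F X : Subgroup G}

/-- The configuration `R F` acting on `X`. -/
structure Hyp (r s : ℕ) (R F X : Subgroup G) : Prop where
  hr : r.Prime
  hs : s.Prime
  ne : r ≠ s
  card : Nat.card R = r
  pF : IsPGroup s F
  rf : R ≤ 𝐍(F)
  rx : R ≤ 𝐍(X)
  fx : F ≤ 𝐍(X)
  nr : ¬ r ∣ Nat.card X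
  ns : ¬ s ∣ Nat.card X
  fix : X ⊓ 𝐂(F) = ⊥
  cz : Nat.card ↥(F ⊓ 𝐂(R)) ∣ s
  comm : ⁅F, R⁆ = F
  solv : Group.IsSolvable X

namespace Hyp

variable [Finite G] (h : Hyp r s R F X)
include h

omit [Finite G] in
theorem copRX : (Nat.card R).Coprime (Nat.card X) :=
  h.card ▸ (Nat.Prime.coprime_iff_not_dvd h.hr).2 h.nr

theorem copRF : (Nat.card R).Coprime (Nat.card F) :=
  h.card ▸ (Nat.Prime.coprime_iff_not_dvd h.hr).2 (not_dvd_card_of_pgroup h.hr h.hs h.ne h.pF)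

theorem copFX : (Nat.card F).Coprime (Nat.card X) := by
  have := Fact.mk h.hs
  obtain ⟨n, hn⟩ := IsPGroup.iff_card.1 h.pF
  exact hn ▸ ((Nat.Prime.coprime_iff_not_dvd h.hs).2 h.ns).pow_left n

theorem quot_fix {N : Subgroup G} (hX : X ≤ 𝐍(N)) (hR : R ≤ 𝐍(N)) :
    quot (X ⊓ 𝐂(R)) N = quot X N ⊓ 𝐂(quot R N) :=
  quot_inf_cent' hX hR h.rx h.copRX (Or.inr h.solv)

theorem quot {N : Subgroup G} (hN : N ≤ X) (hX : X ≤ 𝐍(N)) (hF : F ≤ 𝐍(N)) (hR : R ≤ 𝐍(N)) :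
    Hyp r s (quot R N) (quot F N) (quot X N) where
  hr := h.hr
  hs := h.hs
  ne := h.ne
  card := (card_quot_of_inf_eq_bot hR (Subgroup.disjoint_of_coprime_natCard
    (h.copRX.symm.coprime_dvd_left (Subgroup.card_dvd_of_le hN))).eq_bot).trans h.card
  pF := isPGroup_quot N h.pF
  rf := quot_le_norm N h.rf
  rx := quot_le_norm N h.rx
  fx := quot_le_norm N h.fx
  nr := fun e => h.nr (e.trans (card_quot_dvd X N))
  ns := fun e => h.ns (e.trans (card_quot_dvd X N))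
  fix := by rw [← quot_inf_cent' hX hF h.fx h.copFX (Or.inr h.solv), h.fix, bot_quot]
  cz := by
    rw [← quot_inf_cent' hF hR h.rf h.copRF (Or.inl (Flav.solv_of_card h.hr h.card))]
    exact (card_quot_dvd _ N).trans h.cz
  comm := by rw [← quot_commutator hF hR, h.comm]
  solv := isSolvable_quot N h.solv

theorem key {p : ℕ} [hp : Fact p.Prime] {W : Type*} [AddCommGroup W] [Module (ZMod p) W]
    [FiniteDimensional (ZMod p) W] (ρ : Representation (ZMod p) G W) (hpr : p ≠ r) (hps : p ≠ s)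
    {q : ℕ} (hq : q.Prime) (hpq : p ≠ q) {Q : Subgroup G} (hQ : IsPGroup q Q) (hQX : Q ≤ X)
    (hF : F ≤ 𝐍(Q)) (hR : R ≤ 𝐍(Q)) (hV : ∀ v, (∀ f ∈ F, ρ f v = v) → v = 0) {c : G} (hc : c ∈ Q)
    (hfix : ∀ v, (∀ a ∈ R, ρ a v = v) → ρ c v = v) : ρ c = 1 := by
  by_cases hc1 : c = 1
  · rw [hc1, map_one]
  have := Fact.mk hq
  have hqX : q ∣ Nat.card X := by
    obtain ⟨n, hn⟩ := IsPGroup.iff_card.1 hQ
    refine dvd_trans ?_ (Subgroup.card_dvd_of_le hQX)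
    rw [hn]
    refine dvd_pow_self q fun e => hc1 ?_
    rw [e, pow_zero, Subgroup.card_eq_one] at hn
    rwa [hn] at hc
  set H := Q ⊔ (F ⊔ R) with hH
  have hQH : Q ≤ H := le_sup_left
  have hFH : F ≤ H := le_sup_left.trans le_sup_right
  have hRH : R ≤ H := le_sup_right.trans le_sup_right
  have : (Q.subgroupOf H).Normal := (Subgroup.normal_subgroupOf_iff_le_normalizer hQH).2
    (sup_le Subgroup.le_normalizer (sup_le hF hR))
  have hpH : ¬ p ∣ Nat.card H := fun e => by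
    rcases (Nat.Prime.dvd_mul hp.out).1 (e.trans (FT.card_sup_dvd (sup_le hF hR))) with e | e
    · exact not_dvd_card_of_pgroup hp.out hq hpq hQ e
    rcases (Nat.Prime.dvd_mul hp.out).1 (e.trans (FT.card_sup_dvd h.rf)) with e | e
    · exact not_dvd_card_of_pgroup hp.out h.hs hps h.pF e
    · exact hpr ((Nat.prime_dvd_prime_iff_eq hp.out h.hr).1 (h.card ▸ e))
  refine key_modp (ρ.comp H.subtype) hpH (Q := Q.subgroupOf H) (F := F.subgroupOf H)
    (R := R.subgroupOf H) hq h.hr h.hs (fun e => h.nr (e ▸ hqX)) (fun e => h.ns (e ▸ hqX)) h.ne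
    hQ.comap_subtype h.pF.comap_subtype
    ((Nat.card_congr (Subgroup.subgroupOfEquivOfLe hRH).toEquiv).trans h.card)
    (fun a ha f hf => (Subgroup.mem_normalizer_iff.1 (h.rf ha) f).1 hf) (fun x hx hxF => ?_)
    (fun f hf hf1 hfR k hk hkR => ?_) (fun v hv => hV v fun f hf => hv ⟨f, hFH hf⟩ hf)
    (c := ⟨c, hQH hc⟩) hc fun v hv => hfix v fun a ha => hv ⟨a, hRH ha⟩ ha
  · exact Subtype.ext (Subgroup.mem_bot.1 (h.fix.le ⟨hQX hx, fun f hf =>
      congrArg Subtype.val (hxF ⟨f, hFH hf⟩ hf)⟩))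
  · have hf' : (f : G) ∈ F ⊓ 𝐂(R) := ⟨hf, fun a ha => congrArg Subtype.val (hfR ⟨a, hRH ha⟩ ha)⟩
    have hk' : (k : G) ∈ F ⊓ 𝐂(R) := ⟨hk, fun a ha => congrArg Subtype.val (hkR ⟨a, hRH ha⟩ ha)⟩
    have h1 : Nat.card ↥(F ⊓ 𝐂(R)) = s := ((Nat.dvd_prime h.hs).1 h.cz).resolve_left fun e => by
      rw [Subgroup.card_eq_one] at e
      exact hf1 (Subtype.ext (Subgroup.mem_bot.1 (e ▸ hf')))
    have := Fact.mk h.hs
    obtain ⟨n, hn⟩ := mem_powers_iff_mem_zpowers.2 (mem_zpowers_of_prime_card h1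
      (g := ⟨f, hf'⟩) (fun e => hf1 (Subtype.ext (congrArg (fun x : ↥(F ⊓ 𝐂(R)) => (x : G)) e)))
      (g' := ⟨k, hk'⟩))
    exact ⟨n, Subtype.ext (congrArg (fun x : ↥(F ⊓ 𝐂(R)) => (x : G)) hn.symm)⟩

/-- A `q`-subgroup that is normal modulo the elementary abelian `V` and centralizes `C_V(R)`
centralizes `V`. -/
theorem le_cent {p q : ℕ} (hp : p.Prime) (hq : q.Prime) (hpq : p ≠ q) {V D : Subgroup G}
    (hV : IsElementaryAbelian p V) (h0 : V ≠ ⊥) (hVX : V ≤ X) (hX : X ≤ 𝐍(V)) (hF : F ≤ 𝐍(V))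
    (hR : R ≤ 𝐍(V)) (hD : D ≤ preim V (pCoreOf q (FT.quot X V))) (hc : D ≤ 𝐂(V ⊓ 𝐂(R))) :
    D ≤ 𝐂(V) := by
  have := Fact.mk hp
  have hpX : p ∣ Nat.card X := by
    obtain ⟨n, hn⟩ := IsPGroup.iff_card.1 (CopAct.isPGroup_of_isElementaryAbelian hV)
    refine dvd_trans ?_ (Subgroup.card_dvd_of_le hVX)
    rw [hn]
    exact dvd_pow_self p fun e => h0 (Subgroup.card_eq_one.1 (by rw [hn, e, pow_zero]))
  let ρ : Representation (ZMod p) (CosetOf V) (EAV hV) :=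
    QuotientGroup.lift _ (eaRep hV le_rfl) fun x hx => eaRep_eq_one_iff.2 fun v hv =>
      congrArg Subtype.val (hV.1.is_comm.comm (⟨v, hv⟩ : V) ⟨x, hx⟩)
  have hρ : ∀ (d : ↥𝐍(V)) v, ρ (coset V d) v = v ↔ d * v.val = v.val * d :=
    fun d v => eaRep_apply_eq_iff (hHV := le_rfl)
  intro d hd
  obtain ⟨hdN, hdQ⟩ := mem_preim.1 (hD hd)
  have h1 := h.quot hVX hX hF hR
  have h2 := h1.key ρ (fun e => h.nr (e ▸ hpX)) (fun e => h.ns (e ▸ hpX)) hq hpq
    (isPGroup_pCoreOf q _) (pCoreOf_le _) (h1.fx.trans (normalizer_le_normalizer_pCoreOf _))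
    (h1.rx.trans (normalizer_le_normalizer_pCoreOf _)) (fun v hv => EAV.val_eq_one_iff.1
      (Subgroup.mem_bot.1 (h.fix.le ⟨hVX v.val_mem, fun f hf => (hρ ⟨f, hF hf⟩ v).1
        (hv _ (coset_mem_quot ⟨f, hF hf⟩ hf))⟩))) hdQ fun v hv =>
      (hρ _ v).2 (hc hd v.val ⟨v.val_mem, fun a ha => (hρ ⟨a, hR ha⟩ v).1
        (hv _ (coset_mem_quot ⟨a, hR ha⟩ ha))⟩).symm
  exact (eaRep_eq_one_iff (hV := hV) (hHV := le_rfl) (h := ⟨d, hdN⟩)).1 h2

theorem exists_min (h0 : X ≠ ⊥) : ∃ (p : ℕ) (V : Subgroup G), p.Prime ∧ IsElementaryAbelian p V ∧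
    V ≠ ⊥ ∧ V ≤ X ∧ X ≤ 𝐍(V) ∧ F ≤ 𝐍(V) ∧ R ≤ 𝐍(V) := by
  obtain ⟨V, hV, hVX⟩ := minnormal_exists h0 (A := 𝐍(X)) le_rfl
  have := h.solv
  obtain ⟨p, hp, hea⟩ := minnormal_solvable_abelem hV
    (Group.isSolvable_of_isSolvable_injective (Subgroup.inclusion_injective hVX))
  exact ⟨p, V, hp, hea, hV.1, hVX, Subgroup.le_normalizer.trans hV.2.1, h.fx.trans hV.2.1,
    h.rx.trans hV.2.1⟩

end Hyp

theorem le_pCoreOf_aux {q : ℕ} (hq : q.Prime) (n : ℕ) : ∀ {G : Type u} [Group G] [Finite G]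
    {R F X D : Subgroup G}, Hyp r s R F X → Nat.card X = n → D ≤ X ⊓ 𝐂(R) → X ⊓ 𝐂(R) ≤ 𝐍(D) →
    IsPGroup q D → D ≤ pCoreOf q X := by
  induction n using Nat.strong_induction_on with
  | _ n ih =>
  intro G _ _ R F X D h hn hD hN hDq
  by_cases h0 : X = ⊥
  · exact (hD.trans inf_le_left).trans (h0.le.trans bot_le)
  obtain ⟨p, V, hp, hV, hV0, hVX, hX, hF, hR⟩ := h.exists_min h0
  have hDX := hD.trans inf_le_left
  have h1 : D ≤ preim V (pCoreOf q (quot X V)) := (quot_le_iff_le_preim (hDX.trans hX)).1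
    (ih _ (hn ▸ card_quot_lt_of_normalIn ⟨hVX, hX⟩ hV0) (h.quot hVX hX hF hR) rfl
      (h.quot_fix hX hR ▸ quot_mono V hD) (h.quot_fix hX hR ▸ quot_le_norm V hN)
      (isPGroup_quot V hDq))
  have h2 : NormalIn (preim V (pCoreOf q (quot X V))) X :=
    normalIn_preim_of_quot ⟨hVX, hX⟩ ⟨pCoreOf_le _, le_normalizer_pCoreOf _⟩
  have hVp := CopAct.isPGroup_of_isElementaryAbelian hV
  by_cases hpq : p = q
  · exact h1.trans (le_pCoreOf h2.1 h2.2 (isPGroup_preim (hpq ▸ hVp) (isPGroup_pCoreOf q _)))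
  have := Fact.mk hp
  have := Fact.mk hq
  have h3 := h.le_cent hp hq hpq hV hV0 hVX hX hF hR h1 (by
    rw [← Subgroup.commutator_eq_bot_iff_le_centralizer, eq_bot_iff,
      ← (IsPGroup.disjoint_of_ne q p (Ne.symm hpq) D V hDq hVp).eq_bot]
    refine le_inf (CopAct.commutator_le_of_le_normalizer ((inf_le_inf_right _ hVX).trans hN)) ?_
    rw [Subgroup.commutator_comm]
    exact (Subgroup.commutator_mono inf_le_left le_rfl).trans
      (CopAct.commutator_le_of_le_normalizer (hDX.trans hX)))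
  set Y := preim V (pCoreOf q (quot X V)) ⊓ 𝐂(V) with hY
  have hYV : Y ≤ 𝐍(V) := inf_le_left.trans (preim_le_norm _)
  have : Group.IsNilpotent (quot Y V) := ((isPGroup_pCoreOf q (quot X V)).to_le
    ((quot_le_iff_le_preim hYV).2 inf_le_left)).isNilpotent
  have : Group.IsNilpotent Y := Subgroup.isNilpotent_of_ker_le_center (quotHom hYV) (by
    rw [quotHom_ker]
    exact fun x hx => Subgroup.mem_center_iff.2 fun y => Subtype.ext (y.2.2 x hx).symm)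
  refine le_pCoreOf_of_le_fittingOf hDq ((le_inf h1 h3 : D ≤ Y).trans
    (le_fittingOf (inf_le_left.trans h2.1) ?_))
  exact (le_inf h2.2 (hX.trans (FT.normalizer_le_normalizer_centralizer _))).trans
    Subgroup.inf_normalizer_le_normalizer_inf

theorem Hyp.fitting_le [Finite G] (h : Hyp r s R F X) : fittingOf (X ⊓ 𝐂(R)) ≤ fittingOf X := by
  rw [fittingOf_eq_iSup_pCoreOf]
  exact iSup_le fun q => (le_pCoreOf_aux q.2 _ h rfl (pCoreOf_le _) (le_normalizer_pCoreOf _)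
    (isPGroup_pCoreOf _ _)).trans (pCoreOf_le_fittingOf q.2 X)

theorem Hyp.eq_bot [Finite G] (h : Hyp r s R F X) (hnF : ¬ ∃ k : ℕ, r = 2 ^ k + 1)
    (hC : X ⊓ 𝐂(R) = ⊥) : X = ⊥ := by
  by_contra h0
  obtain ⟨p, V, hp, hV, hV0, hVX, -, hF, hR⟩ := h.exists_min h0
  have h1 : Flav.Hyp p r F R V := ⟨hp, h.hr, h.card, not_dvd_card_of_pgroup h.hr h.hs h.ne h.pF,
    h.rf, hV, hF, hR, le_bot_iff.1 (hC ▸ inf_le_inf_right _ hVX)⟩
  have h2 := h1.comm_le_cent h.hs (fun e => h1.inf_cent_ne hV0 (e ▸ h.pF) hF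
    (le_bot_iff.1 (h.fix ▸ inf_le_inf_right _ hVX))) le_rfl h.pF h.rf (Or.inr (Or.inr hnF))
  rw [h.comm] at h2
  exact hV0 (le_bot_iff.1 (h.fix ▸ le_inf hVX (Subgroup.le_centralizer_iff.1 h2)))

theorem iterRes_eq_bot (hnF : ¬ ∃ k : ℕ, r = 2 ^ k + 1) (n : ℕ) : ∀ {G : Type u} [Group G]
    [Finite G] {R F X : Subgroup G}, Hyp r s R F X → iterRes n (X ⊓ 𝐂(R)) = ⊥ →
    iterRes n X = ⊥ := by
  induction n with
  | zero => exact fun h hC => h.eq_bot hnF hC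
  | succ n ih =>
    intro G _ _ R F X h hC
    have := nilRes_eq_bot_iff.1 hC
    have h1 := (le_fittingOf (iterRes_le n _) (le_normalizer_iterRes n _)).trans h.fitting_le
    have hX := le_normalizer_fittingOf X
    have hN := GT.normalizer_le_normalizer_fittingOf X
    have h2 := ih (h.quot (fittingOf_le X) hX (h.fx.trans hN) (h.rx.trans hN)) (by
      rw [← h.quot_fix hX (h.rx.trans hN), ← Loc.H78.quot_iterRes n (inf_le_left.trans hX)]
      exact quot_eq_bot_of_le h1)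
    rw [← Loc.H78.quot_iterRes n hX, quot_eq_bot_iff ((iterRes_le n X).trans hX)] at h2
    exact le_bot_iff.1 ((nilRes_mono h2).trans (nilRes_eq_bot_iff.2 (isNilpotent_fittingOf X)).le)

/-- The hypotheses of the theorems give `Hyp`, once `X` is known to be solvable. -/
theorem hyp_of_extraspecial [Finite G] (hr : r.Prime) (hs : s.Prime) (hR : Nat.card R = r)
    (hF : IsExtraspecial s F) (hRF : R ≤ 𝐍(F)) (hcomm : ⁅F, R⁆ = F) (hRX : R ≤ 𝐍(X))
    (hFX : F ≤ 𝐍(X)) (hcop : ¬ r ∣ Nat.card X) (hCF : X ⊓ 𝐂(F) = ⊥)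
    (hsolv : ∀ A : Subgroup (MulAut X), Group.IsNilpotent A → (∀ g : X, (∀ a : A, a • g = g) →
      g = 1) → Group.IsSolvable X) : Hyp r s R F X := by
  have := Fact.mk hs
  have hF0 : F ≠ ⊥ := fun e => by
    have h1 := (Subgroup.card_subgroup_dvd_card (Subgroup.center F))
    rw [hF.2, Subgroup.card_eq_one.2 e] at h1
    exact hs.not_dvd_one h1
  have hne : r ≠ s := fun e => (PG.commutator_lt_of_isPGroup hF.1.1
    (IsPGroup.of_card (n := 1) (by rw [hR, e, pow_one])) hRF hF0).ne hcomm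
  have hA : IsPGroup s (CopAct.conjHom hFX).range :=
    hF.1.1.of_surjective _ (MonoidHom.rangeRestrict_surjective _)
  have hfix : ∀ g : X, (∀ a : (CopAct.conjHom hFX).range, a • g = g) → g = 1 := fun g hg =>
    Subtype.ext (Subgroup.mem_bot.1 (hCF.le ⟨g.2, fun f hf => mul_inv_eq_iff_eq_mul.1
      ((CopAct.coe_conjHom_apply hFX ⟨f, hf⟩ g).symm.trans
        (congrArg Subtype.val (hg ⟨_, ⟨f, hf⟩, rfl⟩)))⟩))
  refine ⟨hr, hs, hne, hR, hF.1.1, hRF, hRX, hFX, hcop, fun e => ?_, hCF, ?_, hcomm,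
    hsolv _ hA.isNilpotent hfix⟩
  · obtain ⟨b, hb, hb1⟩ := hA.exists_fixed_point_of_prime_dvd_card_of_fixed_point X e
      (a := 1) fun a => smul_one a
    exact hb1 (hfix b hb).symm
  · have h1 := CopAct.commutator_inf_centralizer_le hRF (hR ▸ (Nat.Prime.coprime_iff_not_dvd hr).2
      (not_dvd_card_of_pgroup hr hs hne hF.1.1))
    rw [hcomm, ← Subgroup.map_subtype_commutator, hF.1.2.2] at h1
    rw [← hF.2, ← Subgroup.card_subtype F (Subgroup.center F)]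
    exact Subgroup.card_dvd_of_le h1

end Cfsg.Agent.EX
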